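import Mathlib.Topology.ContinuousMap.StoneWeierstrass
import Mathlib.Topology.UrysohnsLemma
import Mathlib.MeasureTheory.Constructions.BorelSpace.Metrizable
import Mathlib.MeasureTheory.Constructions.Pi
import Mathlib.MeasureTheory.Integral.Prod
import Mathlib.MeasureTheory.Group.Integral
import Mathlib.MeasureTheory.Group.Measure
import Mathlib.MeasureTheory.Measure.Haar.Basic

/-! Deviations of functions on compact groups, and averaging of cocycles in several variables. -/

universe u v

open MeasureTheory

namespace Groth.Agent.PtDegLib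

variable {G : Type u} [TopologicalSpace G] [CompactSpace G] [T2Space G] [MeasurableSpace G] [BorelSpace G]

/-- A continuous function on a compact space with measurable coordinates in a compact Hausdorff space
separating points is measurable. -/
theorem measurable_of_continuous_of_coords {X : Type v} [TopologicalSpace X] [CompactSpace X]
    [MeasurableSpace X] {ι : Type*} (p : ι → X → G) (hpc : ∀ i, Continuous (p i))
    (hpm : ∀ i, Measurable (p i)) (hsep : ∀ x y, (∀ i, p i x = p i y) → x = y)
    {f : X → ℝ} (hf : Continuous f) : Measurable f := by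
  let A : Subalgebra ℝ C(X, ℝ) :=
    { carrier := {g : C(X, ℝ) | Measurable (g : X → ℝ)}
      mul_mem' := fun {a b} ha hb => by
        show Measurable (fun x => a x * b x)
        exact Measurable.mul ha hb
      add_mem' := fun {a b} ha hb => by
        show Measurable (fun x => a x + b x)
        exact Measurable.add ha hb
      algebraMap_mem' := fun r => by
        exact (show Measurable (fun _ : X => algebraMap ℝ ℝ r) from measurable_const) }
  have hA : A.SeparatesPoints := by
    intro x y hxy
    obtain ⟨i, hi⟩ : ∃ i, p i x ≠ p i y := by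
      by_contra hcon
      push Not at hcon
      exact hxy (hsep x y hcon)
    obtain ⟨g, hg0, hg1, -⟩ := exists_continuous_zero_one_of_isClosed (isClosed_singleton (x := p i x))
      (isClosed_singleton (x := p i y)) (by simpa using hi)
    refine ⟨_, ⟨g.comp ⟨p i, hpc i⟩, g.continuous.measurable.comp (hpm i), rfl⟩, ?_⟩
    show g (p i x) ≠ g (p i y)
    rw [hg0 rfl, hg1 rfl]
    norm_num
  have hmem : (⟨f, hf⟩ : C(X, ℝ)) ∈ closure (A : Set C(X, ℝ)) := by
    rw [← Subalgebra.topologicalClosure_coe,
      ContinuousMap.subalgebra_topologicalClosure_eq_top_of_separatesPoints A hA]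
    trivial
  obtain ⟨g, hg, hlim⟩ := mem_closure_iff_seq_limit.mp hmem
  exact measurable_of_tendsto_metrizable (fun n => hg n)
    (tendsto_pi_nhds.mpr fun x => ((ContinuousEvalConst.continuous_eval_const x).tendsto _).comp hlim)

theorem measurable_pi_of_continuous {ι : Type*} {f : (ι → G) → ℝ} (hf : Continuous f) : Measurable f :=
  measurable_of_continuous_of_coords (fun i x => x i) continuous_apply measurable_pi_apply
    (fun _ _ h => funext h) hf

theorem measurable_prod_pi_of_continuous {ι : Type*} {f : G × (ι → G) → ℝ} (hf : Continuous f) :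
    Measurable f :=
  measurable_of_continuous_of_coords (fun (i : Option ι) (z : G × (ι → G)) => i.elim z.1 z.2)
    (fun i => by cases i <;> simp only [Option.elim] <;> fun_prop)
    (fun i => by cases i <;> simp only [Option.elim] <;> fun_prop)
    (fun _ _ h => Prod.ext (h none) (funext fun i => h (some i))) hf

theorem integrable_pi_of_continuous {ι : Type*} [Fintype ι] (μ : Measure G) [IsProbabilityMeasure μ]
    {f : (ι → G) → ℝ} (hf : Continuous f) : Integrable f (Measure.pi fun _ : ι => μ) := by
  obtain ⟨C, hC⟩ := isCompact_univ.exists_bound_of_continuousOn (f := f) hf.continuousOn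
  exact Integrable.of_bound (measurable_pi_of_continuous hf).aestronglyMeasurable C
    (Filter.Eventually.of_forall fun x => hC x (Set.mem_univ x))

variable [AddCommGroup G] [IsTopologicalAddGroup G]
variable (μ : Measure G) [μ.IsAddHaarMeasure] [IsProbabilityMeasure μ]
variable {ι : Type*} [Fintype ι] [DecidableEq ι]

theorem integral_translate (f : (ι → G) → ℝ) (a : ι → G) :
    ∫ u, f (u + a) ∂(Measure.pi fun _ : ι => μ) = ∫ u, f u ∂(Measure.pi fun _ : ι => μ) := by
  conv_lhs => arg 2; ext u; rw [add_comm]
  exact integral_add_left_eq_self f a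

/-- A nonempty partial sum of independent uniform coordinates is uniform. -/
theorem integral_sum_coords {f : G → ℝ} (hf : Continuous f) {s : Finset ι} (hs : s.Nonempty) (g : G) :
    ∫ u, f (g + ∑ i ∈ s, u i) ∂(Measure.pi fun _ : ι => μ) = ∫ t, f t ∂μ := by
  obtain ⟨j, hj⟩ := hs
  set ν := Measure.pi fun _ : ι => μ
  have hsingle : ∀ (t : G) (u : ι → G),
      g + ∑ i ∈ s, (u + Pi.single j t : ι → G) i = t + (g + ∑ i ∈ s, u i) := fun t u => by
    simp only [Pi.add_apply, Finset.sum_add_distrib, Finset.sum_pi_single', hj, if_true]
    abel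
  have hc : Continuous (fun z : G × (ι → G) => f (z.1 + (g + ∑ i ∈ s, z.2 i))) := by fun_prop
  have hint : Integrable (fun z : G × (ι → G) => f (z.1 + (g + ∑ i ∈ s, z.2 i))) (μ.prod ν) := by
    obtain ⟨C, hC⟩ := isCompact_univ.exists_bound_of_continuousOn hc.continuousOn
    exact Integrable.of_bound (measurable_prod_pi_of_continuous hc).aestronglyMeasurable C
      (Filter.Eventually.of_forall fun x => hC x (Set.mem_univ x))
  calc ∫ u, f (g + ∑ i ∈ s, u i) ∂ν = ∫ _t, ∫ u, f (g + ∑ i ∈ s, u i) ∂ν ∂μ := by
        rw [integral_const]; simp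
    _ = ∫ t, ∫ u, f (t + (g + ∑ i ∈ s, u i)) ∂ν ∂μ := by
        congr 1; ext t
        rw [← integral_translate μ (fun u => f (g + ∑ i ∈ s, u i)) (Pi.single j t)]
        simp only [hsingle]; rfl
    _ = ∫ u, ∫ t, f (t + (g + ∑ i ∈ s, u i)) ∂μ ∂ν := integral_integral_swap hint
    _ = ∫ _u, ∫ t, f t ∂μ ∂ν := by
        congr 1; ext u
        exact integral_add_right_eq_self f _
    _ = ∫ t, f t ∂μ := by rw [integral_const]; simp

omit [CompactSpace G] [T2Space G] [BorelSpace G] [IsTopologicalAddGroup G] [μ.IsAddHaarMeasure] in
/-- The partial average: coordinates in `S` taken from `x`, the others integrated. -/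
noncomputable def avg (ψ : (ι → G) → ℝ) (S : Finset ι) (x : ι → G) : ℝ :=
  ∫ u, ψ (S.piecewise x u) ∂(Measure.pi fun _ : ι => μ)

theorem continuous_piecewise_right (S : Finset ι) (x : ι → G) :
    Continuous (fun u : ι → G => S.piecewise x u) := by
  refine continuous_pi fun i => ?_
  by_cases h : i ∈ S
  · simp only [Finset.piecewise_eq_of_mem _ _ _ h]; fun_prop
  · simp only [Finset.piecewise_eq_of_notMem _ _ _ h]; fun_prop

variable {ψ : (ι → G) → ℝ} (hψc : Continuous ψ)
  (hψ : ∀ (i j : ι), i ≠ j → ∀ (x : ι → G) (a b c : G),
      ψ (Function.update (Function.update x i (a + b)) j c) + ψ (Function.update (Function.update x i a) j b) =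
        ψ (Function.update (Function.update x i a) j (b + c)) + ψ (Function.update (Function.update x i b) j c))

include hψc hψ in
theorem avg_insert {S : Finset ι} {i j : ι} (hi : i ∈ S) (hj : j ∉ S) (x : ι → G) :
    avg μ ψ (insert j S) x = avg μ ψ S x + avg μ ψ S (Function.update x i (x j))
      - avg μ ψ S (Function.update x i (x i + x j)) := by
  set ν := Measure.pi fun _ : ι => μ
  have hij : i ≠ j := fun e => hj (e ▸ hi)
  have key : ∀ u : ι → G, ψ ((insert j S).piecewise x u) =
      ψ (S.piecewise x (u + Pi.single j (x j))) + ψ (S.piecewise (Function.update x i (x j)) u)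
        - ψ (S.piecewise (Function.update x i (x i + x j)) u) := by
    intro u
    have h := hψ i j hij (S.piecewise x u) (x i) (x j) (u j)
    have e1 : Function.update (Function.update (S.piecewise x u) i (x i + x j)) j (u j)
        = S.piecewise (Function.update x i (x i + x j)) u := by
      ext l
      by_cases hlj : l = j
      · subst hlj; simp [hj]
      · rw [Function.update_of_ne hlj]
        by_cases hli : l = i
        · subst hli; simp [hi]
        · by_cases hl : l ∈ S <;> simp [hl, hli]
    have e4 : Function.update (Function.update (S.piecewise x u) i (x j)) j (u j)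
        = S.piecewise (Function.update x i (x j)) u := by
      ext l
      by_cases hlj : l = j
      · subst hlj; simp [hj]
      · rw [Function.update_of_ne hlj]
        by_cases hli : l = i
        · subst hli; simp [hi]
        · by_cases hl : l ∈ S <;> simp [hl, hli]
    have e2 : Function.update (Function.update (S.piecewise x u) i (x i)) j (x j)
        = (insert j S).piecewise x u := by
      ext l
      by_cases hlj : l = j
      · subst hlj; simp
      · rw [Function.update_of_ne hlj]
        by_cases hli : l = i
        · subst hli; simp [hi]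
        · by_cases hl : l ∈ S <;> simp [hl, hli, hlj]
    have e3 : Function.update (Function.update (S.piecewise x u) i (x i)) j (x j + u j)
        = S.piecewise x (u + Pi.single j (x j)) := by
      ext l
      by_cases hlj : l = j
      · subst hlj; simp [hj, add_comm]
      · rw [Function.update_of_ne hlj]
        by_cases hli : l = i
        · subst hli; simp [hi]
        · by_cases hl : l ∈ S <;> simp [hl, hli, hlj]
    rw [e1, e2, e3, e4] at h
    linarith
  have hc : ∀ y : ι → G, Continuous (fun u : ι → G => ψ (S.piecewise y u)) := fun y =>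
    hψc.comp (continuous_piecewise_right S y)
  have h1 : Integrable (fun u : ι → G => ψ (S.piecewise x (u + Pi.single j (x j)))) ν :=
    integrable_pi_of_continuous μ ((hc x).comp (by fun_prop : Continuous fun u : ι → G => u + Pi.single j (x j)))
  have h2 := integrable_pi_of_continuous μ (hc (Function.update x i (x j)))
  have h3 := integrable_pi_of_continuous μ (hc (Function.update x i (x i + x j)))
  calc avg μ ψ (insert j S) x = ∫ u, (ψ (S.piecewise x (u + Pi.single j (x j)))
        + ψ (S.piecewise (Function.update x i (x j)) u)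
        - ψ (S.piecewise (Function.update x i (x i + x j)) u)) ∂ν := by
        rw [avg]; exact integral_congr_ae (Filter.Eventually.of_forall key)
    _ = _ := by
      rw [integral_sub, integral_add, integral_translate μ (fun u => ψ (S.piecewise x u)) (Pi.single j (x j))]
      · rfl
      · exact h1
      · exact h2
      · exact h1.add h2
      · exact h3

omit [TopologicalSpace G] [CompactSpace G] [T2Space G] [MeasurableSpace G] [BorelSpace G] [IsTopologicalAddGroup G] in
/-- The alternating sum over translates by partial sums. -/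
noncomputable def altSum (φ : G → ℝ) (R : Finset ι) (x : ι → G) (t : G) : ℝ :=
  ∑ J ∈ R.powerset, (-1 : ℝ) ^ J.card * φ (t + ∑ i ∈ J, x i)

omit [TopologicalSpace G] [CompactSpace G] [T2Space G] [MeasurableSpace G] [BorelSpace G] [IsTopologicalAddGroup G] [Fintype ι] in
theorem altSum_insert (φ : G → ℝ) {R : Finset ι} {j : ι} (hj : j ∉ R) (x : ι → G) (t : G) :
    altSum φ (insert j R) x t = altSum φ R x t - altSum φ R x (t + x j) := by
  rw [altSum, Finset.sum_powerset_insert hj, altSum, altSum, sub_eq_add_neg, ← Finset.sum_neg_distrib]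
  congr 1
  refine Finset.sum_congr rfl fun J hJ => ?_
  have hjJ : j ∉ J := fun h => hj (Finset.mem_powerset.mp hJ h)
  rw [Finset.card_insert_of_notMem hjJ, Finset.sum_insert hjJ, pow_succ, add_assoc]
  ring

omit [TopologicalSpace G] [CompactSpace G] [T2Space G] [MeasurableSpace G] [BorelSpace G] [IsTopologicalAddGroup G] [Fintype ι] in
theorem altSum_update (φ : G → ℝ) {R : Finset ι} {i : ι} (hi : i ∉ R) (x : ι → G) (a t : G) :
    altSum φ R (Function.update x i a) t = altSum φ R x t := by
  refine Finset.sum_congr rfl fun J hJ => ?_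
  rw [Finset.sum_update_of_notMem (fun h => hi (Finset.mem_powerset.mp hJ h))]

include hψc hψ in
theorem avg_eq_altSum (o : ι) (φ : G → ℝ) (hφ : ∀ x, avg μ ψ {o} x = φ (x o)) (R : Finset ι) :
    o ∉ R → ∀ x, avg μ ψ (insert o R) x = altSum φ R x (x o) - altSum φ R x 0 + φ 0 := by
  refine Finset.induction_on R ?_ ?_
  · intro _ x
    simp [altSum, hφ]
  · intro j R hj ih ho x
    rw [Finset.mem_insert, not_or] at ho
    rw [Finset.insert_comm, avg_insert μ hψc hψ (Finset.mem_insert_self o R)
      (by simp [hj, Ne.symm ho.1]), ih ho.2, ih ho.2, ih ho.2]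
    simp only [Function.update_self, altSum_update φ ho.2, altSum_insert φ hj, zero_add]
    ring

omit [TopologicalSpace G] [CompactSpace G] [T2Space G] [MeasurableSpace G] [BorelSpace G] [IsTopologicalAddGroup G] in
theorem altSum_erase (φ : G → ℝ) (o : ι) (x : ι → G) :
    ∑ I ∈ ((Finset.univ : Finset ι).powerset.erase ∅), (-1 : ℝ) ^ (I.card + 1) * φ (∑ i ∈ I, x i)
      = altSum φ (Finset.univ.erase o) x (x o) - altSum φ (Finset.univ.erase o) x 0 + φ 0 := by
  have h := altSum_insert φ (Finset.notMem_erase o (Finset.univ : Finset ι)) x 0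
  rw [Finset.insert_erase (Finset.mem_univ o), zero_add] at h
  rw [Finset.sum_erase_eq_sub (Finset.empty_mem_powerset _)]
  have e : ∑ I ∈ (Finset.univ : Finset ι).powerset, (-1 : ℝ) ^ (I.card + 1) * φ (∑ i ∈ I, x i)
      = - altSum φ Finset.univ x 0 := by
    rw [altSum, ← Finset.sum_neg_distrib]
    refine Finset.sum_congr rfl fun J _ => ?_
    rw [pow_succ, zero_add]; ring
  rw [e, h]
  simp only [Finset.card_empty, Finset.sum_empty]
  ring

omit [TopologicalSpace G] [CompactSpace G] [T2Space G] [MeasurableSpace G] [BorelSpace G] [IsTopologicalAddGroup G] in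
theorem altSum_zero_const (c : ℝ) (o : ι) :
    ∑ I ∈ (((Finset.univ : Finset ι).powerset.erase ∅).erase {o}), (-1 : ℝ) ^ (I.card + 1) * c = 0 := by
  have hmem : ({o} : Finset ι) ∈ (Finset.univ : Finset ι).powerset.erase ∅ := by
    simp
  rw [Finset.sum_erase_eq_sub hmem, Finset.sum_erase_eq_sub (Finset.empty_mem_powerset _)]
  simp only [pow_succ, mul_neg_one, neg_mul, Finset.sum_neg_distrib, ← Finset.sum_mul]
  haveI : Nonempty ι := ⟨o⟩
  have hz : ∑ I ∈ (Finset.univ : Finset ι).powerset, (-1 : ℝ) ^ I.card = 0 := by
    have h := Finset.sum_powerset_neg_one_pow_card_of_nonempty (x := (Finset.univ : Finset ι)) Finset.univ_nonempty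
    exact_mod_cast h
  rw [hz]
  simp

end Groth.Agent.PtDegLib
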